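/-
A collector for words in positive root elements with polynomial coefficients, in characteristic two.
Monomials are natural numbers (variables are primes), polynomials are lists of monomials.
-/
import Cfsg.Agent.Chev.InvTab

set_option autoImplicit false

namespace CL.RF4

open Cfsg Cfsg.Lie CL.Chev CL.Chev.Cert

/-- add a monomial -/
def tg (m : ℕ) (p : List ℕ) : List ℕ :=
  List.rec [m] (fun h t ih => cond (Nat.beq m h) t (cond (Nat.ble m h) (m :: h :: t) (h :: ih))) p
def frc {α : Type} (L : List ℕ) (f : List ℕ → α) : α :=
  List.rec (motive := fun _ => (List ℕ → α) → α) (fun f => f [])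
    (fun a _ ih f => force a fun a => ih fun l => f (a :: l)) L f
def padd (p q : List ℕ) : List ℕ := List.rec q (fun m _ ih => frc ih fun l => force m fun m => tg m l) p
def smul (a : ℕ) (q r : List ℕ) : List ℕ :=
  List.rec r (fun b _ ih => frc ih fun l => force (Nat.mul a b) fun m => tg m l) q
def pmul (p q : List ℕ) : List ℕ := frc q fun q => List.rec [] (fun a _ ih => smul a q ih) p
def ppow (p : List ℕ) (k : ℕ) : List ℕ := frc p fun p => Nat.rec [1] (fun _ ih => pmul p ih) k

theorem frc_eq {α : Type} (L : List ℕ) (f : List ℕ → α) : frc L f = f L := by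
  induction L generalizing f with
  | nil => rfl
  | cons a L ih => exact (force_eq a fun a => frc L fun l => f (a :: l)).trans (ih _)

section Ev
variable {F : Type*} [Field F] (e : ℕ →* F)

/-- the value of a polynomial -/
def ev (p : List ℕ) : F := (p.map e).sum

@[simp] theorem ev_nil : ev e [] = 0 := rfl
@[simp] theorem ev_cons (m : ℕ) (p : List ℕ) : ev e (m :: p) = e m + ev e p := by simp [ev]

variable (h2 : (2 : F) = 0)
include h2

theorem ev_tg (m : ℕ) (p : List ℕ) : ev e (tg m p) = e m + ev e p := by
  induction p with
  | nil => simp [tg]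
  | cons h t ih =>
    change ev e (cond (Nat.beq m h) t (cond (Nat.ble m h) (m :: h :: t) (h :: tg m t))) = _
    cases hb : Nat.beq m h
    · cases Nat.ble m h
      · simp only [cond_false, ev_cons, ih]; ring
      · simp only [cond_false, cond_true, ev_cons]
    · rw [Nat.eq_of_beq_eq_true hb]
      simp only [cond_true, ev_cons]
      linear_combination -(e h) * h2

theorem ev_padd (p q : List ℕ) : ev e (padd p q) = ev e p + ev e q := by
  induction p with
  | nil => simp [padd]
  | cons m p ih =>
    change ev e (frc (padd p q) fun l => force m fun m => tg m l) = _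
    rw [frc_eq, force_eq, ev_tg e h2, ih, ev_cons, add_assoc]

theorem ev_smul (a : ℕ) (q r : List ℕ) : ev e (smul a q r) = e a * ev e q + ev e r := by
  induction q with
  | nil => simp [smul]
  | cons b q ih =>
    change ev e (frc (smul a q r) fun l => force (Nat.mul a b) fun m => tg m l) = _
    rw [frc_eq, force_eq, ev_tg e h2, ih, ev_cons, Nat.mul_eq, map_mul]
    ring

theorem ev_pmul (p q : List ℕ) : ev e (pmul p q) = ev e p * ev e q := by
  rw [pmul, frc_eq]
  induction p with
  | nil => simp
  | cons a p ih =>
    change ev e (smul a q _) = _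
    rw [ev_smul e h2, ih, ev_cons, add_mul]

theorem ev_ppow (p : List ℕ) (k : ℕ) : ev e (ppow p k) = ev e p ^ k := by
  rw [ppow, frc_eq]
  induction k with
  | zero => simp
  | succ k ih =>
    change ev e (pmul p _) = _
    rw [ev_pmul e h2, ih, pow_succ']

end Ev

/-- words, written from right to left -/
abbrev Wd := List (ℕ × List ℕ)

variable (A : Aux) (key : ℕ → ℕ)

/-- multiply the reversed word `w` on the right by `x_r(t)` and collect, as far as the fuel goes -/
def ins (fuel : ℕ) : Wd → ℕ → List ℕ → Wd :=
  Nat.rec (fun w r t => (r, t) :: w)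
    (fun _ ih w r t => frc t fun t => List.casesOn (motive := fun _ => Wd) t w fun _ _ =>
      List.casesOn (motive := fun _ => Wd) w [(r, t)] fun a w' => force a.1 fun s =>
        cond (Nat.beq s r) (frc (padd a.2 t) fun p => List.casesOn (motive := fun _ => Wd) p w' fun _ _ => (r, p) :: w')
          (cond (Nat.blt (key s) (key r) || !(Nat.blt r A.n && Nat.blt s A.n && !Nat.beq s (A.ng r))) ((r, t) :: (s, a.2) :: w')
            (List.foldl (fun acc c => cond (beqZ (Int.emod c.2.1 2) 0) acc
                (force c.1 fun k => ih acc k (pmul (ppow t c.2.2.1) (ppow a.2 c.2.2.2))))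
              (ih (ih w' r t) s a.2) (A.aTerms r s)))) fuel

/-- the collected form (reversed) of a word -/
def col (fuel : ℕ) (w : Wd) : Wd := w.foldl (fun acc a => ins A key fuel acc a.1 a.2) []

variable {A key} {D : ChevalleyDatum} (T : Tab D A) (E : Real D) {F : Type*} [Field F] (e : ℕ →* F)

/-- the value of a word -/
noncomputable def evW (w : Wd) : GL D.Idx F := (w.map fun a => E.xN a.1 (ev e a.2)).prod

@[simp] theorem evW_nil : evW E e [] = 1 := rfl
@[simp] theorem evW_cons (a : ℕ × List ℕ) (w : Wd) : evW E e (a :: w) = E.xN a.1 (ev e a.2) * evW E e w := by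
  simp [evW]
theorem evW_append (w w' : Wd) : evW E e (w ++ w') = evW E e w * evW E e w' := by simp [evW]

theorem xN_add' (r : ℕ) (t u : F) : E.xN r (t + u) = E.xN r t * E.xN r u := by
  by_cases h : r < D.nroots
  · simp only [E.xN_of_lt h, StSys.x_add]
  · simp [Real.xN, h]

theorem xN_zero' (r : ℕ) : E.xN r (0 : F) = 1 := by
  have := xN_add' E r (0 : F) 0
  rw [add_zero] at this
  exact left_eq_mul.1 this

theorem evW_rev (w : Wd) (r : ℕ) (t : List ℕ) :
    evW E e ((r, t) :: w).reverse = evW E e w.reverse * E.xN r (ev e t) := by
  simp [evW_append]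

variable (h2 : (2 : F) = 0)
include T h2

theorem evW_ins (fuel : ℕ) (w : Wd) (r : ℕ) (t : List ℕ) :
    evW E e (ins A key fuel w r t).reverse = evW E e w.reverse * E.xN r (ev e t) := by
  induction fuel generalizing w r t with
  | zero => exact evW_rev E e w r t
  | succ n ih =>
    have hn : ∀ x : F, -x = x := fun x => by linear_combination -x * h2
    unfold ins at ih ⊢
    simp only [frc_eq, force_eq] at ih ⊢
    cases t with
    | nil => simp [xN_zero']
    | cons m t =>
      cases w with
      | nil => simp
      | cons a w' =>
        obtain ⟨s, u⟩ := a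
        dsimp only
        cases hb : Nat.beq s r
        · rw [cond_false]
          cases hc : (Nat.blt (key s) (key r) || !(Nat.blt r A.n && Nat.blt s A.n && !Nat.beq s (A.ng r)))
          · rw [cond_false]
            simp only [Bool.or_eq_false_iff, Bool.not_eq_false', Bool.and_eq_true, Nat.blt_eq, Bool.not_eq_true'] at hc
            rw [evW_rev, mul_assoc, T.comm_xN E hc.2.1.1 hc.2.1.2 (Nat.ne_of_beq_eq_false hb)
              (Nat.ne_of_beq_eq_false hc.2.2), ← mul_assoc, ← mul_assoc, ← ih w' r, ← ih _ s]
            generalize Nat.rec (motive := fun _ => Wd → ℕ → List ℕ → Wd) _ _ n _ s u = acc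
            generalize A.aTerms r s = L
            induction L generalizing acc with
            | nil => simp
            | cons c L ihL =>
              rw [List.foldl_cons, ihL, List.map_cons, List.prod_cons, ← mul_assoc]
              congr 1
              cases hz : beqZ (Int.emod c.2.1 2) 0
              · have h1 : ((c.2.1 : ℤ) : F) = 1 := by
                  have : c.2.1 % 2 = 1 := by
                    have : ¬ c.2.1 % 2 = 0 := fun h => by simp [beqZ, Int.emod] at hz; exact hz h
                    omega
                  rw [← Int.emod_add_mul_ediv c.2.1 2, this]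
                  push_cast
                  rw [h2]; ring
                rw [cond_false, ih, ev_pmul e h2, ev_ppow e h2, ev_ppow e h2, h1, one_mul, hn]
              · have h1 : ((c.2.1 : ℤ) : F) = 0 := by
                  have : c.2.1 % 2 = 0 := (beqZ_iff _ _).1 hz
                  rw [← Int.emod_add_mul_ediv c.2.1 2, this]
                  push_cast
                  rw [h2]; ring
                rw [cond_true, h1, zero_mul, zero_mul, xN_zero', mul_one]
          · exact evW_rev E e _ r _
        · obtain rfl := Nat.eq_of_beq_eq_true hb
          rw [cond_true, evW_rev, mul_assoc, ← xN_add', ← ev_padd e h2]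
          cases padd u (m :: t) with
          | nil => simp [xN_zero']
          | cons b p => exact evW_rev E e _ _ _

theorem evW_col (fuel : ℕ) (w : Wd) : evW E e (col A key fuel w).reverse = evW E e w := by
  have : ∀ acc : Wd, evW E e (w.foldl (fun acc a => ins A key fuel acc a.1 a.2) acc).reverse =
      evW E e acc.reverse * evW E e w := by
    induction w with
    | nil => simp
    | cons a w ih => intro acc; rw [List.foldl_cons, ih, evW_ins T E e h2, evW_cons, mul_assoc]
  exact (this []).trans (by simp)

theorem evW_eq {fuel : ℕ} {w w' : Wd} (h : (col A key fuel w == col A key fuel w') = true) :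
    evW E e w = evW E e w' := by
  rw [← evW_col T E e h2 fuel w, ← evW_col T E e h2 fuel w', eq_of_beq h]

end CL.RF4
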