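/-
The coordinate group `UO` embeds in the Chevalley group `F₄(K)`.
-/
import Cfsg.Agent.RF4.Col
import Cfsg.Agent.Oct.U1

set_option autoImplicit false
set_option maxRecDepth 20000
set_option linter.unusedSectionVars false

namespace CL.RF4

open Cfsg Cfsg.Lie CL.Chev CL.Chev.Cert CL.Oct CL.Oct.UO

/-- polynomial expressions with the endomorphism `σ` -/
inductive Ex
  | v (i : ℕ)
  | sg (e : Ex)
  | add (a b : Ex)
  | mul (a b : Ex)
  | pw (e : Ex) (k : ℕ)

namespace Ex

instance : Add Ex := ⟨add⟩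
instance : Mul Ex := ⟨mul⟩

def val {K : Type*} [Field K] (σ : K → K) (ρ : ℕ → K) : Ex → K
  | v i => ρ i
  | sg e => σ (e.val σ ρ)
  | add a b => a.val σ ρ + b.val σ ρ
  | mul a b => a.val σ ρ * b.val σ ρ
  | pw e k => e.val σ ρ ^ k

/-- the polynomial of an expression (`false`) or of its image under `σ` (`true`) -/
noncomputable def nf (env : ℕ → Bool → List ℕ) (e : Ex) : Bool → List ℕ :=
  Ex.rec (motive := fun _ => Bool → List ℕ) env (fun _ ih b => cond b (ppow (ih false) 2) (ih true))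
    (fun _ _ i j b => padd (i b) (j b)) (fun _ _ i j b => pmul (i b) (j b)) (fun _ k ih b => ppow (ih b) k) e

theorem ev_nf {K : Type*} [Field K] (h2 : (2 : K) = 0) (P : Par K) (e : ℕ →* K) {env : ℕ → Bool → List ℕ} {ρ : ℕ → K}
    (h : ∀ i, ev e (env i false) = ρ i ∧ ev e (env i true) = P.σ (ρ i)) (x : Ex) :
    ev e (x.nf env false) = x.val P.σ ρ ∧ ev e (x.nf env true) = P.σ (x.val P.σ ρ) := by
  induction x with
  | v i => exact h i
  | sg a ih => exact ⟨ih.2, (ev_ppow e h2 (a.nf env false) 2).trans (by rw [ih.1, val, P.sq])⟩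
  | add a b i j =>
    exact ⟨(ev_padd e h2 (a.nf env false) (b.nf env false)).trans (by rw [i.1, j.1, val]),
      (ev_padd e h2 (a.nf env true) (b.nf env true)).trans (by rw [i.2, j.2, val, map_add])⟩
  | mul a b i j =>
    exact ⟨(ev_pmul e h2 (a.nf env false) (b.nf env false)).trans (by rw [i.1, j.1, val]),
      (ev_pmul e h2 (a.nf env true) (b.nf env true)).trans (by rw [i.2, j.2, val, map_mul])⟩
  | pw a k i =>
    exact ⟨(ev_ppow e h2 (a.nf env false) k).trans (by rw [i.1, val]),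
      (ev_ppow e h2 (a.nf env true) k).trans (by rw [i.2, val, map_pow])⟩

/-- the multiplication of `UO` -/
def mulE : List Ex :=
  [v 0 + v 12,
  v 1 + v 13 + v 10 * v 12,
  v 2 + v 14 + v 4 * v 12 + v 1 * sg (v 13) + v 7 * sg (v 12) + v 10 * v 12 * sg (v 13) + v 11 * v 12 * sg (v 12) + v
    1 * sg (v 10) * sg (v 12),
  v 3 + v 15 + v 4 * v 13 + v 10 * v 14 + v 4 * v 10 * v 12 + sg (v 7) * v 12 + v 9 * sg (v 12) + v 10 * v 13 * sg (v
    13) + v 11 * sg (v 12) * v 13 + v 10 * v 11 * v 12 * sg (v 12) + sg (v 11) * v 12 * sg (v 12) + pw (v 10) 2 * sg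
    (v 10) * v 12 * sg (v 12),
  v 4 + v 16 + v 10 * sg (v 13) + v 11 * sg (v 12),
  v 5 + v 17 + v 6 * v 13 + v 7 * v 15 + v 8 * v 12 + v 9 * v 14 + v 4 * sg (v 16) + v 6 * v 10 * v 12 + v 7 * v 10 *
    v 14 + v 10 * sg (v 15) + v 11 * v 12 * v 15 + v 11 * v 13 * v 14 + v 11 * sg (v 14) + v 7 * v 9 * sg (v 12) + v 9
    * v 13 * sg (v 13) + sg (v 9) * v 12 * v 13 + sg (v 10) * v 13 * v 15 + sg (v 11) * v 12 * v 14 + v 4 * sg (v 10)
    * pw (v 13) 2 + v 4 * sg (v 11) * pw (v 12) 2 + v 7 * v 10 * v 13 * sg (v 13) + v 7 * v 11 * sg (v 12) * v 13 + v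
    9 * v 11 * v 12 * sg (v 12) + sg (v 9) * v 10 * pw (v 12) 2 + v 10 * sg (v 10) * v 12 * v 15 + v 10 * sg (v 10) *
    v 13 * v 14 + v 10 * sg (v 13) * sg (v 16) + v 11 * sg (v 12) * sg (v 16) + v 11 * pw (v 13) 2 * sg (v 13) + v 7 *
    v 10 * v 11 * v 12 * sg (v 12) + v 7 * sg (v 11) * v 12 * sg (v 12) + v 9 * sg (v 10) * sg (v 12) * v 13 + pw (v
    11) 2 * v 12 * sg (v 12) * v 13 + sg (v 11) * v 12 * v 13 * sg (v 13) + v 9 * v 10 * sg (v 10) * v 12 * sg (v 12)
    + v 10 * sg (v 10) * pw (v 13) 2 * sg (v 13) + v 10 * pw (v 11) 2 * pw (v 12) 2 * sg (v 12) + sg (v 10) * v 11 *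
    sg (v 12) * pw (v 13) 2 + v 11 * sg (v 11) * pw (v 12) 2 * sg (v 12) + v 7 * pw (v 10) 2 * sg (v 10) * v 12 * sg
    (v 12) + sg (v 10) * sg (v 11) * v 12 * sg (v 12) * v 13 + v 10 * sg (v 10) * sg (v 11) * pw (v 12) 2 * sg (v 12)
    + pw (v 10) 2 * pw (sg (v 10)) 2 * v 12 * sg (v 12) * v 13 + pw (v 10) 3 * pw (sg (v 10)) 2 * pw (v 12) 2 * sg (v
    12),
  v 6 + v 18 + v 7 * v 16 + v 11 * v 14 + v 9 * sg (v 13) + sg (v 9) * v 12 + sg (v 10) * v 15 + v 11 * v 12 * v 16 +
    v 7 * v 10 * sg (v 13) + v 7 * v 11 * sg (v 12) + v 10 * sg (v 10) * v 14 + sg (v 10) * v 13 * v 16 + v 9 * sg (v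
    10) * sg (v 12) + v 10 * sg (v 10) * v 12 * v 16 + pw (v 11) 2 * v 12 * sg (v 12) + sg (v 11) * v 12 * sg (v 13) +
    sg (v 10) * sg (v 11) * v 12 * sg (v 12) + pw (v 10) 2 * pw (sg (v 10)) 2 * v 12 * sg (v 12),
  v 7 + v 19 + v 11 * v 12 + sg (v 10) * v 13 + v 10 * sg (v 10) * v 12,
  v 8 + v 20 + v 9 * v 16 + v 10 * v 18 + v 11 * v 15 + v 7 * sg (v 19) + sg (v 9) * v 13 + v 10 * v 11 * v 14 + v 11
    * v 13 * v 16 + sg (v 11) * v 14 + v 9 * v 10 * sg (v 13) + v 9 * v 11 * sg (v 12) + sg (v 9) * v 10 * v 12 + v 10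
    * v 11 * v 12 * v 16 + v 11 * v 12 * sg (v 19) + sg (v 11) * v 12 * v 16 + v 7 * pw (v 10) 2 * sg (v 13) + v 7 *
    sg (v 11) * sg (v 12) + pw (v 10) 2 * sg (v 10) * v 14 + sg (v 10) * v 13 * sg (v 19) + pw (v 11) 2 * sg (v 12) *
    v 13 + sg (v 11) * v 13 * sg (v 13) + pw (v 10) 2 * sg (v 10) * v 12 * v 16 + v 10 * sg (v 10) * v 12 * sg (v 19)
    + v 10 * pw (v 11) 2 * v 12 * sg (v 12) + v 10 * sg (v 11) * v 12 * sg (v 13) + v 7 * pw (v 10) 2 * sg (v 10) * sg
    (v 12) + sg (v 10) * sg (v 11) * sg (v 12) * v 13 + v 10 * sg (v 10) * sg (v 11) * v 12 * sg (v 12) + pw (v 10) 2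
    * pw (sg (v 10)) 2 * sg (v 12) * v 13 + pw (v 10) 3 * pw (sg (v 10)) 2 * v 12 * sg (v 12),
  v 9 + v 21 + v 10 * v 19 + v 11 * v 13 + v 10 * v 11 * v 12 + sg (v 11) * v 12 + pw (v 10) 2 * sg (v 10) * v 12,
  v 10 + v 22,
  v 11 + v 23 + v 10 * sg (v 22)]

end Ex

/-- the root elements of the twelve one-parameter families -/
def atomW {α : Type*} (k : ℕ) (t s r : α) : List (ℕ × α) :=
  [[(33, t), (24, s)], [(34, t), (26, s), (36, r)], [(36, t), (42, s)], [(38, t), (43, s)], [(29, t), (41, s), (44, r)],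
    [(44, t), (47, s)], [(39, t), (45, s)], [(35, t), (31, s), (40, r)], [(40, t), (46, s)], [(37, t), (32, s)],
    [(27, t), (25, s), (28, r)], [(28, t), (30, s)]].getD k []

theorem atomW_map {α β : Type*} (f : α → β) {k : ℕ} (hk : k < 12) (t s r : α) :
    (atomW k t s r).map (fun a => (a.1, f a.2)) = atomW k (f t) (f s) (f r) := by
  interval_cases k <;> rfl

def prs : List ℕ :=
  [2, 3, 5, 7, 11, 13, 17, 19, 23, 29, 31, 37, 41, 43, 47, 53, 59, 61, 67, 71, 73, 79, 83, 89, 97, 101]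
def envG (g i : ℕ) (b : Bool) : List ℕ :=
  cond (Nat.blt i 12) [prs.getD (2 * i + cond b 1 0) 0] (cond (Nat.beq i (12 + g)) [prs.getD (24 + cond b 1 0) 0] [])
def atomP (k : ℕ) (p : Bool → List ℕ) : Wd :=
  frc (p false) fun t => frc (p true) fun s => atomW k t s (pmul t s)
def keyU (r : ℕ) : ℕ :=
  [33, 24, 34, 26, 36, 42, 38, 43, 29, 41, 44, 47, 39, 45, 35, 31, 40, 46, 37, 32, 27, 25, 28, 30].idxOf r
noncomputable def chkG (g : ℕ) : Bool :=
  col auxF4 keyU 60 (((List.range 12).flatMap fun k => atomP k (envG g k)) ++ atomP g (envG g (12 + g))) ==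
    col auxF4 keyU 60 ((List.range 12).flatMap fun k => atomP k ((Ex.mulE.getD k (.v 0)).nf (envG g)))

theorem chkG_0 : chkG 0 = true := by decide +kernel
theorem chkG_1 : chkG 1 = true := by decide +kernel
theorem chkG_2 : chkG 2 = true := by decide +kernel
theorem chkG_3 : allLt 9 (fun g => chkG (g + 3)) = true := by decide +kernel

theorem chkG_all {g : ℕ} (hg : g < 12) : chkG g = true := by
  rcases g with _ | _ | _ | g
  exacts [chkG_0, chkG_1, chkG_2, (allLt_iff _ _).1 chkG_3 g (by omega)]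

variable {K : Type*} [Field K] [CharP K 2] {P : Par K} (E : Real chevF4)

/-- coordinates -/
def co (x : UO P) (i : ℕ) : K :=
  [x.a1, x.b2, x.a2, x.a3, x.b4, x.a4, x.a5, x.b6, x.a6, x.a7, x.b8, x.a8].getD i 0
/-- the one-parameter families -/
def gn (P : Par K) (g : ℕ) (t : K) : UO P :=
  [x1 t, y2 t, x2 t, x3 t, y4 t, x4 t, x5 t, y6 t, x6 t, x7 t, y8 t, x8 t].getD g 1

theorem val_mulE (x y : UO P) {k : ℕ} (hk : k < 12) :
    (Ex.mulE.getD k (.v 0)).val P.σ (fun i => if i < 12 then co x i else co y (i - 12)) = co (x * y) k := by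
  interval_cases k <;> rfl

theorem co_gn {g : ℕ} (hg : g < 12) (t : K) (i : ℕ) : co (gn P g t) i = if i = g then t else 0 := by
  by_cases hi : i < 12
  · interval_cases g <;> interval_cases i <;> rfl
  · rw [if_neg (by omega), co, List.getD_eq_default _ _ (by simpa using hi)]

variable (P) in
/-- the image of a one-parameter family -/
noncomputable def atm (k : ℕ) (t : K) : GL chevF4.Idx K := E.word (atomW k t (P.σ t) (t * P.σ t))

/-- the embedding as a function -/
noncomputable def uF (x : UO P) : GL chevF4.Idx K := ((List.range 12).map fun k => atm P E k (co x k)).prod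

omit [CharP K 2] in
theorem evW_eq_word (e : ℕ →* K) (w : Wd) : evW E e w = E.word (w.map fun a => (a.1, ev e a.2)) := by
  simp [evW, Real.word, Function.comp_def]

theorem evW_atomP (e : ℕ →* K) {k : ℕ} (hk : k < 12) {p : Bool → List ℕ} {t : K}
    (h : ev e (p false) = t ∧ ev e (p true) = P.σ t) : evW E e (atomP k p) = atm P E k t := by
  rw [atomP, frc_eq, frc_eq, evW_eq_word, atomW_map _ hk, ev_pmul e (CharP.cast_eq_zero K 2), h.1, h.2, atm]

theorem evW_flat (e : ℕ →* K) {p : ℕ → Bool → List ℕ} {x : UO P}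
    (h : ∀ k < 12, ev e (p k false) = co x k ∧ ev e (p k true) = P.σ (co x k)) :
    evW E e ((List.range 12).flatMap fun k => atomP k (p k)) = uF E x := by
  have : ∀ l : List ℕ, (∀ k ∈ l, k < 12) →
      evW E e (l.flatMap fun k => atomP k (p k)) = (l.map fun k => atm P E k (co x k)).prod := by
    intro l hl
    induction l with
    | nil => rfl
    | cons a l ih =>
      rw [List.flatMap_cons, evW_append, ih fun k hk => hl k (by simp [hk]), List.map_cons, List.prod_cons,
        evW_atomP E e (hl a (by simp)) (h a (hl a (by simp)))]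
  exact this _ fun k hk => List.mem_range.1 hk

theorem prs_spec : ∀ j < 26, (prs.getD j 0).Prime ∧ prs.idxOf (prs.getD j 0) = j := by
  intro j hj
  interval_cases j <;> exact ⟨by norm_num [prs], by decide⟩

theorem uF_mul_gn (x : UO P) {g : ℕ} (hg : g < 12) (t : K) : uF E (x * gn P g t) = uF E x * atm P E g t := by
  let base : ℕ → K := fun i => if i < 12 then co x i else t
  let e : ℕ →* K := evF fun p => if prs.idxOf p % 2 = 0 then base (prs.idxOf p / 2) else P.σ (base (prs.idxOf p / 2))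
  have he : ∀ i ≤ 12, ev e [prs.getD (2 * i + 0) 0] = base i ∧ ev e [prs.getD (2 * i + 1) 0] = P.σ (base i) := by
    intro i hi
    have h0 := prs_spec (2 * i + 0) (by omega)
    have h1 := prs_spec (2 * i + 1) (by omega)
    simp only [ev_cons, ev_nil, add_zero, e] at h0 ⊢
    rw [evF_prime _ h0.1, evF_prime _ h1.1, h0.2, h1.2, if_pos (by omega), if_neg (by omega),
      show 2 * i / 2 = i by omega, show (2 * i + 1) / 2 = i by omega]
    exact ⟨rfl, rfl⟩
  have henv : ∀ i, ev e (envG g i false) = (if i < 12 then co x i else co (gn P g t) (i - 12)) ∧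
      ev e (envG g i true) = P.σ (if i < 12 then co x i else co (gn P g t) (i - 12)) := by
    intro i
    by_cases hi : i < 12
    · have := he i hi.le
      simp only [base, if_pos hi] at this
      have hb : Nat.blt i 12 = true := by rw [Nat.blt_eq]; exact hi
      simpa only [envG, hb, cond_true, cond_false, if_pos hi] using this
    · have hb : Nat.blt i 12 = false := by rw [← Bool.not_eq_true, Nat.blt_eq]; exact hi
      rw [if_neg hi, co_gn hg]
      by_cases hj : i = 12 + g
      · have := he 12 le_rfl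
        simp only [base, lt_irrefl, if_false] at this
        subst hj
        simpa only [envG, hb, Nat.beq_refl, cond_true, cond_false, Nat.add_sub_cancel_left, if_true] using this
      · have hb' : Nat.beq i (12 + g) = false := by rw [← Bool.not_eq_true, Nat.beq_eq]; exact hj
        rw [if_neg (by omega)]
        simp [envG, hb, hb']
  have key := evW_eq tabF4 E e (CharP.cast_eq_zero K 2) (chkG_all hg)
  rw [evW_append, evW_flat E e (x := x), evW_flat E e (x := x * gn P g t), evW_atomP E e hg (t := t)] at key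
  · exact key.symm
  · simpa [co_gn hg] using henv (12 + g)
  · intro k hk
    rw [← val_mulE x _ hk]
    exact Ex.ev_nf (CharP.cast_eq_zero K 2) P e henv _
  · intro k hk
    simpa only [if_pos hk] using henv k

theorem uF_mul (x y : UO P) : uF E (x * y) = uF E x * uF E y := by
  have h : ∀ l : List ℕ, (∀ k ∈ l, k < 12) → ∀ x : UO P, uF E (x * (l.map fun k => gn P k (co y k)).prod) =
      uF E x * (l.map fun k => atm P E k (co y k)).prod := by
    intro l hl
    induction l with
    | nil => simp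
    | cons a l ih =>
      intro x
      rw [List.map_cons, List.prod_cons, ← mul_assoc, ih fun k hk => hl k (by simp [hk]),
        uF_mul_gn E x (hl a (by simp)), List.map_cons, List.prod_cons, mul_assoc]
  have hy : y = ((List.range 12).map fun k => gn P k (co y k)).prod := by
    refine (nf y).trans ?_
    simp only [List.range_succ, List.range_zero, List.nil_append, List.cons_append, List.map_cons, List.map_nil,
      List.prod_cons, List.prod_nil, mul_one, mul_assoc, gn, co, List.getD_cons_succ, List.getD_cons_zero]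
  have h1 := h _ (fun k hk => List.mem_range.1 hk) x
  rw [← hy] at h1
  exact h1

variable (P) in
/-- the embedding of `UO P` -/
noncomputable def uH : UO P →* GL chevF4.Idx K := MonoidHom.mk' (uF E) (uF_mul E)

theorem uH_gn {g : ℕ} (hg : g < 12) (t : K) : uH P E (gn P g t) = atm P E g t := by
  have := uF_mul_gn E (1 : UO P) hg t
  rwa [one_mul, show uF E (1 : UO P) = 1 from map_one (uH P E), one_mul] at this

theorem uH_injective : Function.Injective (uH P E) := by
  refine (injective_iff_map_eq_one _).2 fun x hx => ?_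
  let a : ℕ → K := fun r => ([P.σ x.a1, P.σ x.b8, P.σ x.b2, x.b8, x.b8 * P.σ x.b8 + x.a8, x.b4, P.σ x.a8, P.σ x.b6,
    P.σ x.a7, x.a1, x.b2, x.b6, x.b2 * P.σ x.b2 + x.a2, x.a7, x.a3, x.a5, x.b6 * P.σ x.b6 + x.a6, P.σ x.b4, P.σ x.a2,
    P.σ x.a3, x.b4 * P.σ x.b4 + x.a4, P.σ x.a5, P.σ x.a6, P.σ x.a4] : List K).getD (r - 24) 0
  have h := tabF4.eq_zero_of_word E (Z := [33, 24, 34, 26, 36, 42, 38, 43, 29, 41, 44, 47, 39, 45, 35, 31, 40, 46, 37,
    32, 27, 25, 28, 30]) (by decide +kernel) (a := a) (by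
      rw [← hx]
      simp only [uH, MonoidHom.mk'_apply, uF, atm, atomW, co, a, Real.word, List.range_succ, List.range_zero,
        List.nil_append, List.cons_append, List.map_cons, List.map_nil, List.prod_cons, List.prod_nil, mul_one,
        mul_assoc, List.getD_cons_succ, List.getD_cons_zero, Nat.reduceSub, xN_add'])
  simp only [List.mem_cons, List.not_mem_nil, or_false, forall_eq_or_imp, forall_eq, a, Nat.reduceSub,
    List.getD_cons_succ, List.getD_cons_zero] at h
  obtain ⟨h1, -, h2, -, h3, -, h4, -, h5, -, h6, -, h7, -, h8, -, h9, -, h10, -, h11, -, h12, -⟩ := h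
  ext <;> simp_all

end CL.RF4
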